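import Cfsg.Agent.TECH.SylIn

/-! Coordinate free description of a subgroup `N ≅ PSL₃(2 ^ n)`: the projective plane is the set
of elementary abelian subgroups of order `q ^ 2` (elations with a given centre or axis). -/

set_option autoImplicit false
open Subgroup CL.MSS

namespace CL.L3H

variable {G : Type*} [Group G]

/-- A vertex (point or line of the plane): an elementary abelian subgroup of order `q ^ 2`. -/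
def Vx (N : Subgroup G) (n : ℕ) (X : Subgroup G) : Prop :=
  X ≤ N ∧ (∀ x ∈ X, x * x = 1) ∧ Nat.card X = (2 ^ n) ^ 2

/-- Incident vertices. -/
def Inc (N : Subgroup G) (n : ℕ) (X Y : Subgroup G) : Prop :=
  Vx N n X ∧ Vx N n Y ∧ X ≠ Y ∧ ∃ z, z ≠ 1 ∧ z ∈ X ∧ z ∈ Y

/-- Vertices of the same type. -/
def Ty (N X Y : Subgroup G) : Prop := ∃ g ∈ N, g •ᶜ X = Y

/-- The subgroup generated by the vertices incident with `X` (the stabiliser of a vector). -/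
def P0 (N : Subgroup G) (n : ℕ) (X : Subgroup G) : Subgroup G := sSup {Y | Inc N n X Y}

/-- The torus `diag(t, t⁻¹, 1)` with the points `X₁ = ⟨e₁⟩`, `X₂ = ⟨e₂⟩` and the line `Y` joining
them; `w` is a monomial element swapping `e₁` and `e₂` up to sign. -/
structure Tor (N : Subgroup G) (n : ℕ) (X₁ X₂ Y H : Subgroup G) (w : G) : Prop where
  i1 : Inc N n X₁ Y
  i2 : Inc N n X₂ Y
  ne : X₁ ≠ X₂
  le : H ≤ N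
  cyc : IsCyclic H
  card : Nat.card H + 1 = 2 ^ n
  n1 : ∀ t ∈ H, t •ᶜ X₁ = X₁
  n2 : ∀ t ∈ H, t •ᶜ X₂ = X₂
  semi : ∀ t ∈ H, ∀ X₃, Inc N n X₃ Y → t •ᶜ X₃ = X₃ → t = 1 ∨ X₃ = X₁ ∨ X₃ = X₂
  wN : w ∈ N
  w1 : w •ᶜ X₁ = X₂
  winv : ∀ t ∈ H, w * t * w⁻¹ = t⁻¹
  dec : ∀ g ∈ N, g •ᶜ X₁ = X₁ → ∃ t ∈ H, g * t⁻¹ ∈ P0 N n X₁
  ev : Even n → ∃ t ∈ H, t ≠ 1 ∧ t ∈ P0 N n X₁

/-- Coordinates of `X ⊓ Y` with the scalar action of the Borel subgroup. -/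
structure Fld (N X Y : Subgroup G) {F : Type} [Field F] (z : F → G) : Prop where
  two : (2 : F) = 0
  inj : Function.Injective z
  add : ∀ s t, z (s + t) = z s * z t
  mem : ∀ g, (g ∈ X ∧ g ∈ Y) ↔ ∃ t, z t = g
  sc : ∀ h ∈ N, h •ᶜ X = X → h •ᶜ Y = Y → ∃ c, ∀ t, h * z t * h⁻¹ = z (c * t)
  ex : ∀ c, c ≠ 0 → ∃ h ∈ N, h •ᶜ X = X ∧ h •ᶜ Y = Y ∧ ∀ t, h * z t * h⁻¹ = z (c * t)

/-- The local facts on `N ≅ PSL₃(2 ^ n)`. -/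
structure PL (N : Subgroup G) (n : ℕ) : Prop where
  pos : 1 ≤ n
  simple : ∀ K ≤ N, (∀ g ∈ N, ∀ x ∈ K, g * x * g⁻¹ ∈ K) → K = ⊥ ∨ K = N
  cen : ∀ x ∈ N, x ∈ centralizer (N : Set G) → x = 1
  two : ∀ z ∈ N, z ≠ 1 → z * z = 1 →
    ∃ X Y, Inc N n X Y ∧ z ∈ X ∧ z ∈ Y ∧ ∀ W, Vx N n W → z ∈ W → W = X ∨ W = Y
  card_inf : ∀ X Y, Inc N n X Y → Nat.card (X ⊓ Y : Subgroup G) = 2 ^ n
  comm_mem : ∀ X Y, Inc N n X Y → ∀ x ∈ X, ∀ y ∈ Y, x * y * x⁻¹ * y⁻¹ ∈ X ⊓ Y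
  comm_surj : ∀ X Y, Inc N n X Y → ∀ x ∈ X, x ∉ Y → ∀ z ∈ X ⊓ Y, ∃ y ∈ Y, x * y * x⁻¹ * y⁻¹ = z
  comm_ne : ∀ X Y, Inc N n X Y → ∀ x ∈ X, ∀ y ∈ Y, x * y = y * x → x ∈ Y ∨ y ∈ X
  syl : ∀ X Y, Inc N n X Y → SylIn 2 (X ⊔ Y) N
  ex : ∃ X Y, Inc N n X Y
  nty : ∀ X Y, Inc N n X Y → ¬ Ty N X Y
  join : ∀ X₁ X₂, Vx N n X₁ → Ty N X₁ X₂ → X₁ ≠ X₂ → ∃ Y, Inc N n X₁ Y ∧ Inc N n X₂ Y
  tor : ∀ X₁, Vx N n X₁ → ∃ X₂ Y H w, Tor N n X₁ X₂ Y H w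
  fld : ∀ X Y, Inc N n X Y → ∃ (F : Type) (_ : Field F) (_ : Finite F) (z : F → G), Fld N X Y z
  c1 : n = 1 → Nat.card N = 168
  c2 : n = 2 → Nat.card N = 20160

end CL.L3H
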