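import Cfsg.Agent.PERM.L3H.LocB
import Cfsg.Agent.CLAS.SLBasic
import Cfsg.Agent.FGS.CITStruct

/-! The local facts on `PSL₃(2 ^ n)`. -/

set_option autoImplicit false
open Subgroup CL.MSS Matrix

namespace CL.L3H

open Lc

theorem exists_pl {G : Type*} [Group G] [Finite G] {N : Subgroup G} {n : ℕ} (hn : 1 ≤ n)
    {F : Type} [Field F] [Fintype F] (hF : Fintype.card F = 2 ^ n)
    (e : N ≃* Matrix.ProjectiveSpecialLinearGroup (Fin 3) F) : PL N n := by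
  have hch : CharP F 2 := charP_of_card_eq_prime_pow hF
  have h : Gd N n (N.subtype.comp (e.symm.toMonoidHom.comp
      (QuotientGroup.mk' (center (Matrix.SpecialLinearGroup (Fin 3) F))))) := by
    refine ⟨?_, fun g => ?_, CharTwo.two_eq_zero, by rw [Nat.card_eq_fintype_card, hF], hn⟩
    · rw [MonoidHom.range_comp, MonoidHom.range_eq_top.2
        (e.symm.surjective.comp (QuotientGroup.mk'_surjective _)), ← MonoidHom.range_eq_map,
        range_subtype]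
    · rw [← QuotientGroup.eq_one_iff, MonoidHom.comp_apply, MonoidHom.comp_apply,
        map_eq_one_iff _ N.subtype_injective]
      exact map_eq_one_iff e.symm e.symm.injective
  generalize N.subtype.comp (e.symm.toMonoidHom.comp
      (QuotientGroup.mk' (center (Matrix.SpecialLinearGroup (Fin 3) F)))) = φ at h
  have hs := CL.SL.psl_isSimpleGroup_of_three_le (ι := Fin 3) (F := F) (by simp)
  have hs' : IsSimpleGroup N := e.isSimpleGroup
  have simple : ∀ K ≤ N, (∀ g ∈ N, ∀ x ∈ K, g * x * g⁻¹ ∈ K) → K = ⊥ ∨ K = N := by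
    intro K hK H
    have : (K.subgroupOf N).Normal := ⟨fun x hx g => H g g.2 x hx⟩
    refine this.eq_bot_or_eq_top.imp (fun a => ?_) fun a => le_antisymm hK (subgroupOf_eq_top.1 a)
    rw [subgroupOf_eq_bot, disjoint_iff, inf_of_le_left hK] at a
    exact a
  have hne : ∀ X Y, Inc N n X Y → ∀ x ∈ X, ∀ y ∈ Y, x * y = y * x → x ∈ Y ∨ y ∈ X := by
    intro X Y hI
    obtain ⟨ψ, h, rfl, rfl⟩ := h.of_inc hI
    rintro _ ⟨x, ⟨f, hf, hx⟩, rfl⟩ _ ⟨y, ⟨w, hw, hy⟩, rfl⟩ hc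
    exact (mem_of_comm' h hf hw hx hy hc)
  refine ⟨hn, simple, fun x hx hc => ?_, fun z hz => h.two' hz, fun X Y hI => ?_,
    fun X Y hI => ?_, fun X Y hI => ?_, hne, fun X Y hI => ?_,
    ⟨_, _, h.inc e1_ne e3_ne (by rw [dot3]; simp)⟩, fun X Y hI => ?_, fun X₁ X₂ hX => ?_,
    fun X hX => ?_, fun X Y hI => ?_, ?_, ?_⟩
  · rcases simple (N ⊓ centralizer (N : Set G)) inf_le_left (fun g hg y hy => by
      rw [hy.2 g hg, mul_inv_cancel_right]; exact hy) with a | a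
    · exact mem_bot.1 (a.le ⟨hx, hc⟩)
    · have hI := h.inc e1_ne e3_ne (by rw [dot3]; simp)
      have h1 : ¬ (A ![1, 0, 0]).map φ ≤ (B ![0, 0, 1]).map φ := fun e =>
        A_ne_B e1_ne _ (h.le_of_map (fun _ => h.sqA) (fun _ => h.sqB) e)
      have h2 : ¬ (B ![0, 0, 1]).map φ ≤ (A ![1, 0, 0]).map φ := fun e =>
        hI.2.2.1 (eq_of_le_of_card_ge e (by rw [hI.1.2.2, hI.2.1.2.2])).symm
      obtain ⟨u, hu, hu'⟩ := SetLike.not_le_iff_exists.1 h1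
      obtain ⟨v, hv, hv'⟩ := SetLike.not_le_iff_exists.1 h2
      have h3 : v ∈ N ⊓ centralizer (N : Set G) := a.symm ▸ hI.2.1.1 hv
      exact ((hne _ _ hI u hu v hv (h3.2 u (hI.1.1 hu))).elim hu' hv').elim
  · obtain ⟨ψ, h, rfl, rfl⟩ := h.of_inc hI
    rw [← h.card]
    refine (Nat.card_eq_of_bijective (fun s => ⟨ψ (zz s), h.mem_inf.2 ⟨s, rfl⟩⟩)
      ⟨fun s t e => h.z_inj (congrArg Subtype.val e), fun g => ?_⟩).symm
    obtain ⟨s, hs⟩ := h.mem_inf.1 g.2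
    exact ⟨s, Subtype.ext hs⟩
  · obtain ⟨ψ, h, rfl, rfl⟩ := h.of_inc hI
    rintro _ ⟨x, ⟨f, hf, hx⟩, rfl⟩ _ ⟨y, ⟨w, hw, hy⟩, rfl⟩
    rw [← map_inv, ← map_inv, ← map_mul, ← map_mul, ← map_mul, comm_eq hf hw hx hy]
    exact h.mem_inf.2 ⟨_, rfl⟩
  · obtain ⟨ψ, h, rfl, rfl⟩ := h.of_inc hI
    rintro _ ⟨x, ⟨f, hf, hx⟩, rfl⟩ hxY z hz
    obtain ⟨s, rfl⟩ := h.mem_inf.1 hz
    have hf1 : f 1 ≠ 0 := fun h1 => hxY ⟨x, mem_B_of hf hx h1, rfl⟩
    have hw : (![0, 0, 1] : Fin 3 → F) ⬝ᵥ ![0, s / f 1, 0] = 0 := by rw [dot3]; simp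
    refine ⟨_, ⟨_, tv_mem_B _ _ hw, rfl⟩, ?_⟩
    rw [← map_inv, ← map_inv, ← map_mul, ← map_mul, ← map_mul, comm_eq hf hw hx rfl]
    simp [mul_div_cancel₀ _ hf1]
  · obtain ⟨ψ, h, rfl, rfl⟩ := h.of_inc hI
    rw [← Subgroup.map_sup, sup_eq_uni, ← h.rng, MonoidHom.range_eq_map]
    exact (sylIn_top (CL.GLn.uniSylow 3 F 2)).map ψ
  · obtain ⟨ψ, h, rfl, rfl⟩ := h.of_inc hI
    rintro ⟨g, hg, e⟩
    obtain ⟨m, rfl⟩ := h.ex hg
    rw [Gd.cj, cjA] at e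
    exact h.A_ne (mulVec_ne m e1_ne) _ e
  · obtain ⟨ψ, h, rfl⟩ := h.of_vx hX
    rintro ⟨g, hg, rfl⟩ hne
    obtain ⟨m, rfl⟩ := h.ex hg
    rw [Gd.cj, cjA] at hne ⊢
    have hw := mulVec_ne m e1_ne
    generalize m.1 *ᵥ ![1, 0, 0] = w at hw hne ⊢
    have hc : (![1, 0, 0] : Fin 3 → F) ⨯₃ w ≠ 0 := fun h0 => by
      obtain ⟨c, rfl⟩ := par_of_cross e1_ne h0
      exact hne (by rw [A_smul fun e => hw (by rw [e, zero_smul])])
    exact ⟨_, h.inc e1_ne hc (by rw [dotProduct_comm, dot_self_cross]),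
      h.inc hw hc (by rw [dotProduct_comm, dot_cross_self])⟩
  · obtain ⟨ψ, h, rfl⟩ := h.of_vx hX
    exact ⟨_, _, _, _, h.tor⟩
  · obtain ⟨ψ, h, rfl, rfl⟩ := h.of_inc hI
    exact ⟨F, inferInstance, inferInstance, _, h.fld⟩
  · rintro rfl
    rw [Nat.card_congr e.toEquiv]
    have h1 := CL.SL.card_SL_mul (F := F) 3 (by norm_num)
    have h2 := CL.SL.card_center_mul_card_PSL (ι := Fin 3) (R := F)
    rw [CL.SL.card_center_SL, Nat.card_eq_fintype_card (α := F), hF] at h2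
    rw [hF] at h1
    simp only [Fin.prod_univ_three] at h1
    norm_num at h1 h2
    omega
  · rintro rfl
    rw [Nat.card_congr e.toEquiv, CL.CITC.card_psl3_four hF]

end CL.L3H
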