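import Cfsg.Agent.PERM.L3H.Def
import Cfsg.Agent.KSG.GLnStSL

/-! Elations of `SL₃(F)`: the groups `A v` (centre `v`) and `B f` (axis `f`). -/

set_option autoImplicit false
set_option linter.unusedSimpArgs false
open Subgroup CL.MSS Matrix

namespace CL.L3H.Lc

variable {F : Type} [Field F]

local notation "SL3" => SpecialLinearGroup (Fin 3) F
local notation "V3" => Fin 3 → F

theorem dot3 (a b : V3) : a ⬝ᵥ b = a 0 * b 0 + a 1 * b 1 + a 2 * b 2 := by
  simp [dotProduct, Fin.sum_univ_three]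

theorem mv3 (M : Matrix (Fin 3) (Fin 3) F) (v : V3) (i : Fin 3) :
    (M *ᵥ v) i = M i 0 * v 0 + M i 1 * v 1 + M i 2 * v 2 := dot3 _ _

theorem vm3 (M : Matrix (Fin 3) (Fin 3) F) (v : V3) (i : Fin 3) :
    (v ᵥ* M) i = v 0 * M 0 i + v 1 * M 1 i + v 2 * M 2 i := dot3 _ _

/-- The elation `1 + v f`. -/
def tv (v f : V3) (h : f ⬝ᵥ v = 0) : SL3 := ⟨1 + vecMulVec v f, by
  rw [dot3] at h
  simp [det_fin_three, vecMulVec_apply, one_apply]
  linear_combination h⟩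

theorem coe_tv (v f : V3) (h : f ⬝ᵥ v = 0) : (tv v f h).1 = 1 + vecMulVec v f := rfl

theorem tv_mul (v f w g : V3) : (1 + vecMulVec v f) * (1 + vecMulVec w g) =
    1 + vecMulVec v f + vecMulVec w g + (f ⬝ᵥ w) • vecMulVec v g := by
  rw [add_mul, one_mul, mul_add, mul_one, vecMulVec_mul_vecMulVec, vecMulVec_smul]
  abel

theorem inv_eq_tv {g : SL3} {v f : V3} (h : f ⬝ᵥ v = 0) (hg : g.1 = 1 + vecMulVec v f) :
    (g⁻¹).1 = 1 + vecMulVec v (-f) := by
  have h' : (-f) ⬝ᵥ v = 0 := by rw [neg_dotProduct, h, neg_zero]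
  have : g * tv v (-f) h' = 1 := Subtype.ext (by
    change g.1 * (1 + vecMulVec v (-f)) = 1
    rw [hg, tv_mul, h, zero_smul, vecMulVec_neg]; abel)
  rw [← eq_inv_of_mul_eq_one_right this]; rfl

/-- Elations with centre `v`. -/
def A (v : V3) : Subgroup SL3 where
  carrier := {g | ∃ f, f ⬝ᵥ v = 0 ∧ g.1 = 1 + vecMulVec v f}
  one_mem' := ⟨0, by simp, by simp⟩
  mul_mem' := by
    rintro a b ⟨f, hf, ha⟩ ⟨g, hg, hb⟩
    refine ⟨f + g, by rw [add_dotProduct, hf, hg, add_zero], ?_⟩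
    change a.1 * b.1 = _
    rw [ha, hb, tv_mul, hf, zero_smul, vecMulVec_add]; abel
  inv_mem' := by
    rintro a ⟨f, hf, ha⟩
    exact ⟨-f, by rw [neg_dotProduct, hf, neg_zero], inv_eq_tv hf ha⟩

/-- Elations with axis `f`. -/
def B (f : V3) : Subgroup SL3 where
  carrier := {g | ∃ v, f ⬝ᵥ v = 0 ∧ g.1 = 1 + vecMulVec v f}
  one_mem' := ⟨0, by simp, by simp⟩
  mul_mem' := by
    rintro a b ⟨v, hv, ha⟩ ⟨w, hw, hb⟩
    refine ⟨v + w, by rw [dotProduct_add, hv, hw, add_zero], ?_⟩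
    change a.1 * b.1 = _
    rw [ha, hb, tv_mul, hw, zero_smul, add_vecMulVec]; abel
  inv_mem' := by
    rintro a ⟨v, hv, ha⟩
    exact ⟨-v, by rw [dotProduct_neg, hv, neg_zero], by
      rw [inv_eq_tv hv ha, vecMulVec_neg, neg_vecMulVec]⟩

theorem tv_mem_A (v f : V3) (h : f ⬝ᵥ v = 0) : tv v f h ∈ A v := ⟨f, h, rfl⟩
theorem tv_mem_B (v f : V3) (h : f ⬝ᵥ v = 0) : tv v f h ∈ B f := ⟨v, h, rfl⟩

theorem conj_coe (m : SL3) {g : SL3} {v f : V3} (hg : g.1 = 1 + vecMulVec v f) :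
    (m * g * m⁻¹).1 = 1 + vecMulVec (m.1 *ᵥ v) (f ᵥ* (m⁻¹).1) := by
  change m.1 * g.1 * (m⁻¹).1 = _
  rw [hg, mul_add, add_mul, mul_one, mul_vecMulVec, vecMulVec_mul,
    show m.1 * (m⁻¹).1 = 1 from congrArg Subtype.val (mul_inv_cancel m)]

theorem conj_dot (m : SL3) (v f : V3) : (f ᵥ* (m⁻¹).1) ⬝ᵥ (m.1 *ᵥ v) = f ⬝ᵥ v := by
  rw [← dotProduct_mulVec, mulVec_mulVec,
    show (m⁻¹).1 * m.1 = 1 from congrArg Subtype.val (inv_mul_cancel m), one_mulVec]

theorem inv_mulVec (m : SL3) (v : V3) : (m⁻¹).1 *ᵥ (m.1 *ᵥ v) = v := by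
  rw [mulVec_mulVec, show (m⁻¹).1 * m.1 = 1 from congrArg Subtype.val (inv_mul_cancel m),
    one_mulVec]

theorem vecMul_inv (m : SL3) (f : V3) : (f ᵥ* m.1) ᵥ* (m⁻¹).1 = f := by
  rw [vecMul_vecMul, show m.1 * (m⁻¹).1 = 1 from congrArg Subtype.val (mul_inv_cancel m),
    vecMul_one]

theorem mulVec_ne (m : SL3) {v : V3} (h : v ≠ 0) : m.1 *ᵥ v ≠ 0 := fun h0 =>
  h (by rw [← inv_mulVec m v, h0, mulVec_zero])

theorem vecMul_ne (m : SL3) {f : V3} (h : f ≠ 0) : f ᵥ* m.1 ≠ 0 := fun h0 =>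
  h (by rw [← vecMul_inv m f, h0, zero_vecMul])

theorem cjA_le (m : SL3) (v : V3) : m •ᶜ A v ≤ A (m.1 *ᵥ v) := by
  rintro _ ⟨g, ⟨f, hf, hg⟩, rfl⟩
  exact ⟨_, by rw [conj_dot, hf], conj_coe m hg⟩

theorem cjA (m : SL3) (v : V3) : m •ᶜ A v = A (m.1 *ᵥ v) := by
  refine le_antisymm (cjA_le m v) (le_cj_iff.2 ?_)
  simpa only [inv_mulVec] using cjA_le m⁻¹ (m.1 *ᵥ v)

theorem cjB_le (m : SL3) (f : V3) : m •ᶜ B f ≤ B (f ᵥ* (m⁻¹).1) := by
  rintro _ ⟨g, ⟨v, hv, hg⟩, rfl⟩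
  exact ⟨_, by rw [conj_dot, hv], conj_coe m hg⟩

theorem cjB (m : SL3) (f : V3) : m •ᶜ B f = B (f ᵥ* (m⁻¹).1) := by
  refine le_antisymm (cjB_le m f) (le_cj_iff.2 ?_)
  simpa only [vecMul_inv] using cjB_le m⁻¹ (f ᵥ* (m⁻¹).1)

theorem A_smul_le (c : F) (v : V3) : A (c • v) ≤ A v := by
  rintro g ⟨f, hf, hg⟩
  refine ⟨c • f, ?_, by rw [hg, smul_vecMulVec, vecMulVec_smul]⟩
  rw [dotProduct_smul] at hf
  rwa [smul_dotProduct]

theorem A_smul {c : F} (hc : c ≠ 0) (v : V3) : A (c • v) = A v :=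
  le_antisymm (A_smul_le c v) (by
    simpa only [smul_smul, inv_mul_cancel₀ hc, one_smul] using A_smul_le c⁻¹ (c • v))

theorem exists_perp (v : V3) : ∃ f : V3, f ≠ 0 ∧ f ⬝ᵥ v = 0 := by
  by_cases h : v 0 = 0
  · exact ⟨![1, 0, 0], fun h0 => by simpa using congrFun h0 0, by rw [dot3]; simp [h]⟩
  · exact ⟨![v 1, -v 0, 0], fun h0 => h (by simpa using congrFun h0 1), by rw [dot3]; simp [mul_comm]⟩

theorem par_of_eq {v f w g : V3} (hf : f ≠ 0) (h : vecMulVec v f = vecMulVec w g) :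
    ∃ c : F, v = c • w := by
  obtain ⟨j, hj⟩ := Function.ne_iff.1 hf
  refine ⟨g j / f j, funext fun i => ?_⟩
  have := congrFun (congrFun h i) j
  simp only [vecMulVec_apply] at this
  simp only [Pi.smul_apply, smul_eq_mul]
  have hj' : f j ≠ 0 := hj
  field_simp
  linear_combination this

theorem par_of_eq' {v f w g : V3} (hv : v ≠ 0) (h : vecMulVec v f = vecMulVec w g) :
    ∃ c : F, f = c • g :=
  par_of_eq hv (by simpa only [transpose_vecMulVec] using congrArg transpose h)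

theorem par_of_A {v w : V3} (h : A v ≤ A w) : ∃ c : F, v = c • w := by
  obtain ⟨f, hf, h0⟩ := exists_perp v
  obtain ⟨g, -, hg⟩ := h (tv_mem_A v f h0)
  exact par_of_eq hf (add_left_cancel hg)

theorem par_of_B {f g : V3} (h : B f ≤ B g) : ∃ c : F, f = c • g := by
  obtain ⟨v, hv, h0⟩ := exists_perp f
  obtain ⟨w, -, hw⟩ := h (tv_mem_B v f (by rwa [dotProduct_comm]))
  exact par_of_eq' hv (add_left_cancel hw)

theorem par_of_cross {a b : V3} (ha : a ≠ 0) (h : a ⨯₃ b = 0) : ∃ c : F, b = c • a := by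
  have h0 := congrFun h 0
  have h1 := congrFun h 1
  have h2 := congrFun h 2
  simp only [cross_apply, cons_val_zero, cons_val_one, cons_val, Pi.zero_apply] at h0 h1 h2
  obtain ⟨j, hj⟩ := Function.ne_iff.1 ha
  have hj' : a j ≠ 0 := hj
  refine ⟨b j / a j, funext fun i => ?_⟩
  simp only [Pi.smul_apply, smul_eq_mul]
  field_simp
  fin_cases i <;> fin_cases j <;> simp only [Fin.zero_eta, Fin.mk_one, Fin.reduceFinMk] <;>
    first | ring1 | linear_combination h0 | linear_combination -h0 | linear_combination h1 |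
      linear_combination -h1 | linear_combination h2 | linear_combination -h2

theorem exists_dot_one {v : V3} (hv : v ≠ 0) : ∃ g : V3, g ⬝ᵥ v = 1 := by
  obtain ⟨j, hj⟩ := Function.ne_iff.1 hv
  have hj' : v j ≠ 0 := hj
  exact ⟨Pi.single j (v j)⁻¹, by rw [single_dotProduct, inv_mul_cancel₀ hj']⟩

/-- `SL₃` is transitive on flags. -/
theorem exists_flag {v f : V3} (hv : v ≠ 0) (hf : f ≠ 0) (h : f ⬝ᵥ v = 0) :
    ∃ m : SL3, m.1 *ᵥ ![1, 0, 0] = v ∧ ![0, 0, 1] ᵥ* (m⁻¹).1 = f := by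
  obtain ⟨g, hg⟩ := exists_dot_one hv
  obtain ⟨u, hu⟩ := exists_dot_one hf
  rw [dot3] at h hg hu
  let m : SL3 := ⟨!![v 0, f 1 * g 2 - f 2 * g 1, u 0; v 1, f 2 * g 0 - f 0 * g 2, u 1;
      v 2, f 0 * g 1 - f 1 * g 0, u 2], by
    simp [det_fin_three]
    linear_combination (g 0 * v 0 + g 1 * v 1 + g 2 * v 2) * hu + hg -
      (g 0 * u 0 + g 1 * u 1 + g 2 * u 2) * h⟩
  refine ⟨m, ?_, ?_⟩
  · ext i; rw [mv3]; fin_cases i <;> simp [m]
  · rw [← vecMul_inv m f]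
    congr 1
    ext i; rw [vm3]; fin_cases i <;> simp [m]
    · linear_combination -h
    · ring
    · linear_combination -hu

theorem A_ne_B {v : V3} (hv : v ≠ 0) (f : V3) : ¬ A v ≤ B f := by
  intro h
  obtain ⟨g, hg, h0⟩ := exists_perp v
  obtain ⟨m, hm, -⟩ := exists_flag hv hg h0
  rw [← hm, ← cjA, cj_le_iff, cjB] at h
  generalize f ᵥ* (m⁻¹⁻¹).1 = k at h
  have e1 : (![1, 0, 0] : V3) ≠ 0 := fun h0 => by simpa using congrFun h0 0
  obtain ⟨w, -, hw⟩ := h (tv_mem_A ![1, 0, 0] ![0, 1, 0] (by rw [dot3]; simp))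
  obtain ⟨w', -, hw'⟩ := h (tv_mem_A ![1, 0, 0] ![0, 0, 1] (by rw [dot3]; simp))
  obtain ⟨c, hc⟩ := par_of_eq' e1 (add_left_cancel hw)
  obtain ⟨d, hd⟩ := par_of_eq' e1 (add_left_cancel hw')
  have a1 := congrFun hc 1
  have a2 := congrFun hc 2
  have a3 := congrFun hd 2
  simp at a1 a2 a3
  rcases a2 with a2 | a2
  · simp [a2] at a1
  · simp [a2] at a3

/-- An elation commuting with `1 + v f` has centre `v` or axis `f`. -/
theorem mem_of_comm {v f w g : V3} (hv : v ≠ 0) (hf : f ≠ 0) (h : f ⬝ᵥ v = 0) (h' : g ⬝ᵥ w = 0)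
    {x y : SL3} (hx : x.1 = 1 + vecMulVec v f) (hy : y.1 = 1 + vecMulVec w g)
    (hc : x * y = y * x) : y ∈ A v ∨ y ∈ B f := by
  have h1 : x.1 * y.1 = y.1 * x.1 := congrArg Subtype.val hc
  rw [hx, hy, tv_mul, tv_mul] at h1
  have h2 : (f ⬝ᵥ w) • vecMulVec v g = (g ⬝ᵥ v) • vecMulVec w f := by
    rw [add_right_comm 1 (vecMulVec w g)] at h1
    exact add_left_cancel h1
  have hone : vecMulVec w g = 0 → y ∈ A v ∨ y ∈ B f := fun h0 =>
    Or.inl ⟨0, by simp, by rw [hy, h0, vecMulVec_zero]⟩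
  by_cases hw : w = 0
  · exact hone (by rw [hw, zero_vecMulVec])
  by_cases hg : g = 0
  · exact hone (by rw [hg, vecMulVec_zero])
  have h3 : (g ⬝ᵥ v) * (f ⬝ᵥ w) = 0 := by
    have := congrArg (· *ᵥ w) h2
    simp only [smul_mulVec, vecMulVec_mulVec, h', op_smul_eq_smul, zero_smul, smul_zero,
      smul_smul] at this
    exact (smul_eq_zero.1 this.symm).resolve_right hw
  have h4 : f ⬝ᵥ w = 0 := by
    by_contra h4
    rw [(mul_eq_zero.1 h3).resolve_right h4, zero_smul] at h2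
    exact vecMulVec_ne_zero hv hg ((smul_eq_zero.1 h2).resolve_left h4)
  rw [h4, zero_smul] at h2
  have h5 : g ⬝ᵥ v = 0 := (smul_eq_zero.1 h2.symm).resolve_right (vecMulVec_ne_zero hw hf)
  by_cases hu : v ⨯₃ w = 0
  · obtain ⟨c, rfl⟩ := par_of_cross hv hu
    exact Or.inl ⟨c • g, by rw [smul_dotProduct, h5, smul_zero],
      by rw [hy, smul_vecMulVec, vecMulVec_smul]⟩
  · obtain ⟨c, hc⟩ := par_of_cross hu (b := f) (by
      rw [cross_cross_eq_smul_sub_smul, dotProduct_comm v, dotProduct_comm w, h, h4]; simp)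
    obtain ⟨d, hd⟩ := par_of_cross hu (b := g) (by
      rw [cross_cross_eq_smul_sub_smul, dotProduct_comm v, dotProduct_comm w, h', h5]; simp)
    have hc0 : c ≠ 0 := fun h0 => hf (by rw [hc, h0, zero_smul])
    have hgf : g = (d / c) • f := by rw [hc, smul_smul, div_mul_cancel₀ _ hc0, ← hd]
    exact Or.inr ⟨(d / c) • w, by rw [dotProduct_smul, h4, smul_zero],
      by rw [hy, smul_vecMulVec, ← vecMulVec_smul, ← hgf]⟩

theorem exists_vec {n : Matrix (Fin 3) (Fin 3) F} (h : n * n = 0) :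
    ∃ v f : V3, f ⬝ᵥ v = 0 ∧ n = vecMulVec v f := by
  have h1 := rank_add_rank_le_card_of_mul_eq_zero h
  rw [Fintype.card_fin] at h1
  have h2 : Module.finrank F (LinearMap.range n.mulVecLin) ≤ 1 := by
    change n.rank ≤ 1; omega
  obtain ⟨v, hv⟩ := finrank_le_one_iff.1 h2
  choose c hc using fun j => hv ⟨n *ᵥ Pi.single j 1, Pi.single j 1, rfl⟩
  have h3 : n = vecMulVec v.1 c := by
    ext i j
    have := congrFun (congrArg Subtype.val (hc j)) i
    simp at this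
    rw [vecMulVec_apply, mul_comm, this]
  by_cases h4 : c ⬝ᵥ v.1 = 0
  · exact ⟨v.1, c, h4, h3⟩
  · refine ⟨0, 0, by simp, ?_⟩
    rw [h3, vecMulVec_mul_vecMulVec, vecMulVec_smul] at h
    rw [h3, (smul_eq_zero.1 h).resolve_left h4, zero_vecMulVec]

theorem tr_inv (g : SL3) : (g.transpose)⁻¹ = (g⁻¹).transpose := by
  refine inv_eq_of_mul_eq_one_right (Subtype.ext ?_)
  change g.1ᵀ * (g⁻¹).1ᵀ = 1
  rw [← transpose_mul, show (g⁻¹).1 * g.1 = 1 from congrArg Subtype.val (inv_mul_cancel g),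
    transpose_one]

/-- Inverse transpose. -/
def tau : SL3 ≃* SL3 where
  toFun g := (g⁻¹).transpose
  invFun g := (g⁻¹).transpose
  left_inv g := by
    simp only [tr_inv, inv_inv]; rfl
  right_inv g := by
    simp only [tr_inv, inv_inv]; rfl
  map_mul' a b := Subtype.ext (by
    rw [_root_.mul_inv_rev]
    exact transpose_mul _ _)

theorem tau_coe {g : SL3} {v f : V3} (h : f ⬝ᵥ v = 0) (hg : g.1 = 1 + vecMulVec v f) :
    (tau g).1 = 1 + vecMulVec (-f) v := by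
  change ((g⁻¹).1)ᵀ = _
  rw [inv_eq_tv h hg, transpose_add, transpose_one, transpose_vecMulVec]

theorem tau_tau (g : SL3) : tau (tau g) = g := tau.left_inv g

theorem tauA_le (v : V3) : ∀ g ∈ A v, tau g ∈ B v := by
  rintro g ⟨f, hf, hg⟩
  exact ⟨-f, by rw [dotProduct_neg, dotProduct_comm, hf, neg_zero], tau_coe hf hg⟩

theorem tauB_le (f : V3) : ∀ g ∈ B f, tau g ∈ A f := by
  rintro g ⟨v, hv, hg⟩
  exact ⟨-v, by rw [neg_dotProduct, dotProduct_comm, hv, neg_zero],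
    by rw [tau_coe hv hg, neg_vecMulVec, vecMulVec_neg]⟩

theorem tauA (v : V3) : (A v).map tau.toMonoidHom = B v := by
  refine le_antisymm ?_ fun g hg => ⟨tau g, tauB_le v g hg, tau_tau g⟩
  rintro _ ⟨g, hg, rfl⟩
  exact tauA_le v g hg

theorem tauB (v : V3) : (B v).map tau.toMonoidHom = A v := by
  refine le_antisymm ?_ fun g hg => ⟨tau g, tauA_le v g hg, tau_tau g⟩
  rintro _ ⟨g, hg, rfl⟩
  exact tauB_le v g hg

theorem card_A1 : Nat.card (A (![1, 0, 0] : V3)) = Nat.card F ^ 2 := by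
  rw [sq, ← Nat.card_prod]
  refine (Nat.card_eq_of_bijective (fun p : F × F => (⟨tv ![1, 0, 0] ![0, p.1, p.2] (by rw [dot3]; simp),
    tv_mem_A _ _ _⟩ : A (![1, 0, 0] : V3))) ⟨fun p r h => ?_, ?_⟩).symm
  · have h1 := congrArg (fun g => g.1.1) h
    have a1 := congrFun (congrFun h1 0) 1
    have a2 := congrFun (congrFun h1 0) 2
    simp [coe_tv, vecMulVec_apply] at a1 a2
    exact Prod.ext a1 a2
  · rintro ⟨g, f, hf, hg⟩
    refine ⟨(f 1, f 2), Subtype.ext (Subtype.ext ?_)⟩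
    rw [dot3] at hf; simp at hf
    rw [hg, coe_tv]
    congr 2
    ext i; fin_cases i <;> simp [hf]

theorem card_A {v : V3} (hv : v ≠ 0) : Nat.card (A v) = Nat.card F ^ 2 := by
  obtain ⟨g, hg, h0⟩ := exists_perp v
  obtain ⟨m, hm, -⟩ := exists_flag hv hg h0
  rw [← hm, ← cjA, card_cj, card_A1]

theorem sup_eq_uni : A ![1, 0, 0] ⊔ B ![0, 0, 1] = CL.GLn.uniSL 3 F := by
  refine le_antisymm (sup_le ?_ ?_) ?_
  · rintro g ⟨f, hf, hg⟩
    rw [dot3] at hf; simp at hf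
    refine ⟨fun i j h => ?_, fun i => ?_⟩
    · rw [hg, Matrix.add_apply, vecMulVec_apply]; fin_cases i <;> fin_cases j <;> simp at h ⊢
    · rw [hg, Matrix.add_apply, vecMulVec_apply]; fin_cases i <;> simp [hf]
  · rintro g ⟨f, hf, hg⟩
    rw [dot3] at hf; simp at hf
    refine ⟨fun i j h => ?_, fun i => ?_⟩
    · rw [hg, Matrix.add_apply, vecMulVec_apply]; fin_cases i <;> fin_cases j <;> simp at h ⊢
    · rw [hg, Matrix.add_apply, vecMulVec_apply]; fin_cases i <;> simp [hf]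
  · rintro g ⟨h1, h2⟩
    have : g = tv ![g.1 0 2, g.1 1 2, 0] ![0, 0, 1] (by rw [dot3]; simp) *
        tv ![1, 0, 0] ![0, g.1 0 1, 0] (by rw [dot3]; simp) := by
      have a := h1 (i := 1) (j := 0) (by simp)
      have b := h1 (i := 2) (j := 0) (by simp)
      have c := h1 (i := 2) (j := 1) (by simp)
      apply Subtype.ext
      change _ = (1 + vecMulVec _ _) * (1 + vecMulVec _ _)
      rw [tv_mul]
      ext i j
      fin_cases i <;> fin_cases j <;> simp [vecMulVec_apply, dot3, a, b, c, h2]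
    rw [this]
    exact mul_mem (mem_sup_right (tv_mem_B _ _ _)) (mem_sup_left (tv_mem_A _ _ _))

/-- The stabiliser of `e₁` is generated by the elations whose axis passes through `e₁`. -/
theorem mem_of_fix {P : Subgroup SL3}
    (hP : ∀ (w f : V3) (h : f ⬝ᵥ w = 0), f 0 = 0 → tv w f h ∈ P) {m : SL3}
    (hm : m.1 *ᵥ ![1, 0, 0] = ![1, 0, 0]) : m ∈ P := by
  have key : ∀ m : SL3, m.1 0 0 = 1 → m.1 1 0 = 0 → m.1 2 0 = 0 → m.1 2 1 ≠ 0 → m ∈ P := by
    intro m a b c he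
    have hd := m.2
    rw [det_fin_three, a, b, c] at hd
    have : m = tv ![0, (m.1 1 1 - 1) / m.1 2 1, 0] ![0, 0, 1] (by rw [dot3]; simp) *
        tv ![0, 0, m.1 2 1] ![0, 1, 0] (by rw [dot3]; simp) *
        tv ![0, (m.1 2 2 - 1) / m.1 2 1, 0] ![0, 0, 1] (by rw [dot3]; simp) *
        tv ![1, 0, 0] ![0, m.1 0 1, m.1 0 2] (by rw [dot3]; simp) := by
      apply Subtype.ext
      change _ = (1 + vecMulVec _ _) * (1 + vecMulVec _ _) * (1 + vecMulVec _ _) *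
        (1 + vecMulVec _ _)
      ext i j
      fin_cases i <;> fin_cases j <;>
        simp [vecMulVec_apply, mul_apply, Fin.sum_univ_three, one_apply, a, b, c] <;> field_simp
      all_goals first | ring1 | linear_combination -hd
    rw [this]
    exact mul_mem (mul_mem (mul_mem (hP _ _ _ rfl) (hP _ _ _ rfl)) (hP _ _ _ rfl)) (hP _ _ _ rfl)
  have a : m.1 0 0 = 1 := by simpa [mv3] using congrFun hm 0
  have b : m.1 1 0 = 0 := by simpa [mv3] using congrFun hm 1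
  have c : m.1 2 0 = 0 := by simpa [mv3] using congrFun hm 2
  by_cases he : m.1 2 1 = 0
  · have hd := m.2
    rw [det_fin_three, a, b, c, he] at hd
    let x : SL3 := tv ![0, 0, 1] ![0, 1, 0] (by rw [dot3]; simp)
    have hx : (x * m).1 = (1 + vecMulVec ![0, 0, 1] ![0, 1, 0]) * m.1 := rfl
    refine (P.mul_mem_cancel_left (hP _ _ _ rfl : x ∈ P)).1 (key _ ?_ ?_ ?_ ?_) <;> rw [hx] <;>
      simp [vecMulVec_apply, mul_apply, Fin.sum_univ_three, one_apply, a, b, c, he]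
    intro h0
    simp [h0] at hd
  · exact key m a b c he

/-- The torus `diag(t, t⁻¹, 1)`. -/
def dg : Fˣ →* SL3 where
  toFun t := ⟨diagonal ![(t : F), (t⁻¹ : Fˣ), 1], by simp [det_diagonal, Fin.prod_univ_three]⟩
  map_one' := Subtype.ext (by
    ext i j; fin_cases i <;> fin_cases j <;> simp)
  map_mul' a b := Subtype.ext (by
    change _ = diagonal _ * diagonal _
    rw [diagonal_mul_diagonal]
    refine congrArg diagonal (funext fun i => ?_)
    fin_cases i <;> simp [mul_comm])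

theorem dg_mulVec (t : Fˣ) (v : V3) : (dg t).1 *ᵥ v = ![t * v 0, (t : F)⁻¹ * v 1, v 2] := by
  ext i
  change (diagonal _ *ᵥ v) i = _
  rw [mulVec_diagonal]
  fin_cases i <;> simp

theorem vecMul_dg (t : Fˣ) (v : V3) : v ᵥ* (dg t).1 = ![t * v 0, (t : F)⁻¹ * v 1, v 2] := by
  ext i
  change (v ᵥ* diagonal _) i = _
  rw [vecMul_diagonal]
  fin_cases i <;> simp [mul_comm]

/-- The monomial element swapping `e₁` and `e₂` up to sign. -/
def wm : SL3 := ⟨!![0, -1, 0; 1, 0, 0; 0, 0, 1], by simp [det_fin_three]⟩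

theorem wm_dg (t : Fˣ) : wm * dg t * wm⁻¹ = (dg t : SL3)⁻¹ := by
  rw [← map_inv, mul_inv_eq_iff_eq_mul]
  apply Subtype.ext
  change (wm : SL3).1 * diagonal _ = diagonal _ * (wm : SL3).1
  ext i j
  rw [mul_diagonal, diagonal_mul]
  fin_cases i <;> fin_cases j <;> simp [wm]

theorem wm_e1 : (wm : SL3).1 *ᵥ ![1, 0, 0] = ![0, 1, 0] := by
  ext i; rw [mv3]; fin_cases i <;> simp [wm]

end CL.L3H.Lc
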